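import Groth.Agent.Lib.StabLevi15.Trivial
import Groth.Agent.Lib.ChBal21.Basic
import Groth.Agent.Lib.TorPts21.GeomIso
import Groth.Agent.Lib.TorPts21.ReductiveCartanField
import Groth.Prelude.Def_Par
import Mathlib.AlgebraicGeometry.Morphisms.Finite

/-!
# The part of the global stabilizer over a conjugacy class inside a parabolic balanced product
-/

set_option autoImplicit false
set_option linter.style.haveILetI false
set_option maxSynthPendingDepth 3
set_option synthInstance.maxHeartbeats 400000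
set_option backward.isDefEq.respectTransparency false
set_option backward.isDefEq.respectTransparency.types false

universe u

open CategoryTheory Limits MonoidalCategory CartesianMonoidalCategory MonObj GrpObj AlgebraicGeometry
open Groth.Agent.ChBal21

noncomputable section

namespace Groth.Agent.StabLevi15

set_option maxHeartbeats 1000000 in
theorem isClosedImmersion_j {k : Type u} [Field k] [IsAlgClosed k] [CharZero k]
    {G X Z Ψ P Xh SX SΨ Y : Over (Spec (CommRingCat.of k))} [GrpObj G] [GrpObj Z] [GrpObj P]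
    [IsAffine G.left] (a : AlgGrp.Action G X)
    (σX : SX ⟶ G ⊗ X) [Mono σX]
    (hSX : ∀ (T : Over (Spec (CommRingCat.of k))) (g : T ⟶ G) (x : T ⟶ X),
      (∃ s : T ⟶ SX, s ≫ σX = lift g x) ↔ lift g x ≫ a.act = x)
    [IsFinite (σX ≫ snd G X).left]
    (h : 𝟙_ (Over (Spec (CommRingCat.of k))) ⟶ G)
    (i : Z ⟶ G) [IsMonHom i]
    (ψ : Ψ ⟶ G) [IsClosedImmersion ψ.left] (aΨ : AlgGrp.Action G Ψ)
    (hψ : aΨ.act ≫ ψ = fst G Ψ * (snd G Ψ ≫ ψ) * (fst G Ψ)⁻¹)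
    (o : 𝟙_ (Over (Spec (CommRingCat.of k))) ⟶ Ψ) (ho : o ≫ ψ = h)
    (hhom : ChGrp.IsHomog Scheme.fppfPrecoverage i aΨ o)
    (p : P ⟶ G) [IsMonHom p] [IsClosedImmersion p.left]
    (l : Z ⟶ P) [IsMonHom l] (hl : l ≫ p = i) (hL : Par.IsLevi l)
    (incl : Xh ⟶ X)
    (hXh : ∀ (T : Over (Spec (CommRingCat.of k))) (x : T ⟶ X),
      (∃ y : T ⟶ Xh, y ≫ incl = x) ↔ lift (toUnit T ≫ h) x ≫ a.act = x)
    (σ : SΨ ⟶ G ⊗ X) [Mono σ]
    (hSΨ : ∀ (T : Over (Spec (CommRingCat.of k))) (g : T ⟶ G) (x : T ⟶ X),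
      (∃ s : T ⟶ SΨ, s ≫ σ = lift g x) ↔ ((∃ y : T ⟶ Ψ, y ≫ ψ = g) ∧ lift g x ≫ a.act = x))
    (Φ : G ⊗ Xh ⟶ SΨ)
    (hΦ : Φ ≫ σ = lift (fst G Xh * (toUnit (G ⊗ Xh) ≫ h) * (fst G Xh)⁻¹)
      (lift (fst G Xh) (snd G Xh ≫ incl) ≫ a.act))
    (aY : AlgGrp.Action G Y) (jY : G ⊗ X ⟶ Y)
    (hY : ChGrp.IsBalProd Scheme.fppfPrecoverage p (a.restrict p) aY jY)
    (q : Y ⟶ X) (hq : jY ≫ q = a.act) [IsSeparated q.left]
    (j : SΨ ⟶ Y) (hj : Φ ≫ j = (G ◁ incl) ≫ jY) :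
    IsClosedImmersion j.left := by
  haveI : Mono ψ := Over.mono_of_mono_left ψ
  haveI : Mono p := Over.mono_of_mono_left p
  haveI : Mono l := hL.2.1
  haveI : Mono i := hl ▸ mono_comp l p
  have hpair : ∀ {T W V : Over (Spec (CommRingCat.of k))} (z : T ⟶ W ⊗ V), z = lift (z ≫ fst W V) (z ≫ snd W V) :=
    fun z => by rw [← comp_lift, lift_fst_snd, Category.comp_id]
  -- the orbit map
  have horb : ∀ {T : Over (Spec (CommRingCat.of k))} (g : T ⟶ G),
      (g ≫ aΨ.orbitMap o) ≫ ψ = g * (toUnit T ≫ h) * g⁻¹ := fun {T} g => by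
    rw [AlgGrp.Action.comp_orbitMap, Category.assoc, hψ, MonObj.comp_mul, MonObj.comp_mul, GrpObj.comp_inv, lift_fst,
      lift_snd_assoc, Category.assoc, ho]
  have hcent : ∀ {T : Over (Spec (CommRingCat.of k))} (z : T ⟶ Z),
      (z ≫ i) * (toUnit T ≫ h) = (toUnit T ≫ h) * (z ≫ i) := fun {T} z => by
    have h1 := congrArg (fun m => lift (1 : T ⟶ G) z ≫ m) hhom.2.1.w
    simp only [lift_fst_assoc, lift_whiskerLeft_assoc, Category.assoc] at h1
    rw [← Category.assoc (lift _ _) μ[G], ← Hom.mul_def, _root_.one_mul] at h1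
    have h2 := congrArg (· ≫ ψ) h1
    simp only [horb, _root_.one_mul, inv_one, _root_.mul_one] at h2
    exact mul_inv_eq_iff_eq_mul.1 h2.symm
  obtain ⟨hZ, hhZ⟩ : ∃ hZ : 𝟙_ (Over (Spec (CommRingCat.of k))) ⟶ Z, hZ ≫ i = h := by
    have e : (1 : 𝟙_ (Over (Spec (CommRingCat.of k))) ⟶ G) ≫ aΨ.orbitMap o = h ≫ aΨ.orbitMap o := by
      rw [← cancel_mono ψ, horb, horb, toUnit_unique (toUnit _) (𝟙 _), Category.id_comp, _root_.one_mul, inv_one,
        _root_.mul_one, mul_inv_cancel_right]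
    have h1 := hhom.2.1.lift_fst _ _ e
    have h2 := hhom.2.1.lift_snd _ _ e
    generalize hhom.2.1.lift _ _ e = w at h1 h2
    refine ⟨w ≫ snd G Z, ?_⟩
    rw [hpair w, lift_whiskerLeft_assoc, ← Hom.mul_def, h1, _root_.one_mul] at h2
    exact h2
  let hP : 𝟙_ (Over (Spec (CommRingCat.of k))) ⟶ P := hZ ≫ l
  have hPp : ∀ T : Over (Spec (CommRingCat.of k)), (toUnit T ≫ hP) ≫ p = toUnit T ≫ h := fun T => by
    simp only [hP, Category.assoc, hl, hhZ]
  have hcP : ∀ {T : Over (Spec (CommRingCat.of k))} (z : T ⟶ Z),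
      (z ≫ l) * (toUnit T ≫ hP) = (toUnit T ≫ hP) * (z ≫ l) := fun {T} z => by
    rw [← cancel_mono p, MonObj.mul_comp, MonObj.mul_comp, hPp, Category.assoc, hl, hcent]
  -- the unipotent radical
  obtain ⟨U, gU, uU, ⟨hum, huc, hun, hus, -, huf, -⟩, hiso⟩ := hL.2.2.2
  haveI := hum; haveI := huc; haveI := hus; haveI := hiso
  let up : U ⟶ G := uU ≫ p
  haveI : IsMonHom up := inferInstanceAs (IsMonHom (uU ≫ p))
  haveI : IsClosedImmersion up.left := by
    show IsClosedImmersion (uU ≫ p).left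
    rw [Over.comp_left]; infer_instance
  haveI : IsAffine U.left := isAffine_of_isAffineHom up.left
  let s₀ : Spec (CommRingCat.of k) := IsLocalRing.closedPoint k
  haveI : ConnectedSpace U.left := TorPts21.connectedSpace_of_bc (Red.geomPt s₀) (huf s₀).1
  have hUu : Red.HasNoSubtorus k U := TorPts21.hasNoSubtorus_of_geomFibre s₀ (huf s₀).2
  -- elements of `P` moving a fixed point of `h` to a fixed point of `h` commute with `h`
  have key : ∀ {T : Over (Spec (CommRingCat.of k))} (g : T ⟶ P) (x x' : T ⟶ X),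
      lift (toUnit T ≫ h) x ≫ a.act = x → lift (toUnit T ≫ h) x' ≫ a.act = x' →
      lift (g ≫ p) x' ≫ a.act = x → (g ≫ p) * (toUnit T ≫ h) * (g ≫ p)⁻¹ = toUnit T ≫ h := by
    intro T g x x' hx hx' hgx
    set m : Z ⊗ U ⟶ P := (l ⊗ₘ uU) ≫ μ[P] with hm
    let w := g ≫ inv m
    have hg : g = (w ≫ fst Z U ≫ l) * (w ≫ snd Z U ≫ uU) := by
      have e : g = w ≫ m := by simp [w]
      conv_lhs => rw [e, hm, hpair w]
      rw [lift_map_assoc, ← Hom.mul_def]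
      simp only [Category.assoc, w]
    set z := w ≫ fst Z U ≫ l with hz
    set v := w ≫ snd Z U with hv
    have hzc : z * (toUnit T ≫ hP) = (toUnit T ≫ hP) * z := by
      have := hcP (w ≫ fst Z U)
      simpa only [Category.assoc, hz] using this
    have hg' : g = z * (v ≫ uU) := by
      rw [hg, hv]
      simp only [Category.assoc, w]
    obtain ⟨v1, hv1⟩ := hun T (toUnit T ≫ hP) v⁻¹
    obtain ⟨v2, hv2⟩ := hun T z (v * v1)
    have hinv : (v⁻¹ : T ⟶ U) ≫ uU = (v ≫ uU)⁻¹ := GrpObj.inv_comp _ _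
    rw [hinv] at hv1
    rw [MonObj.mul_comp, ← hv1] at hv2
    have hc : g * (toUnit T ≫ hP) * g⁻¹ = (v2 ≫ uU) * (toUnit T ≫ hP) := by
      have e2 : (toUnit T ≫ hP) * z⁻¹ = z⁻¹ * (toUnit T ≫ hP) := by
        rw [eq_inv_mul_iff_mul_eq, ← _root_.mul_assoc, hzc, mul_inv_cancel_right]
      rw [← hv2, hg']
      simp only [_root_.mul_assoc, _root_.mul_inv_rev]
      rw [← e2]
      simp only [inv_mul_cancel_left]
    have hc' : (g ≫ p) * (toUnit T ≫ h) * (g ≫ p)⁻¹ = (v2 ≫ up) * (toUnit T ≫ h) := by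
      rw [← hPp, ← GrpObj.inv_comp, ← MonObj.mul_comp, ← MonObj.mul_comp, hc, MonObj.mul_comp, Category.assoc]
    have hgx' : lift (g ≫ p)⁻¹ x ≫ a.act = x' := by
      rw [← hgx, ← AlgGrpBasic19.act_mul, inv_mul_cancel, AlgGrpBasic19.act_one]
    have hfix : lift (v2 ≫ up) x ≫ a.act = x := by
      have h1 : lift ((g ≫ p) * (toUnit T ≫ h) * (g ≫ p)⁻¹) x ≫ a.act = x := by
        rw [AlgGrpBasic19.act_mul, hgx', AlgGrpBasic19.act_mul, hx', hgx]
      rw [hc', AlgGrpBasic19.act_mul, hx] at h1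
      exact h1
    have hv2' : v2 = 1 := eq_one_of_fix up hUu a σX hSX v2 x hfix
    rw [hc', hv2', MonObj.one_comp, _root_.one_mul]
  -- local lifts through `Φ`
  have hlift : ∀ {T : Over (Spec (CommRingCat.of k))} (s : T ⟶ SΨ), ∃ R ∈ Scheme.fppfPrecoverage T.left,
      ∀ ⦃W : Scheme.{u}⦄ (f : W ⟶ T.left), R f → ∃ r : mem f ⟶ G ⊗ Xh, r ≫ Φ = memHom f ≫ s := by
    intro T s
    obtain ⟨⟨gΨ, hgΨ⟩, hfix⟩ := (hSΨ T (s ≫ σ ≫ fst G X) (s ≫ σ ≫ snd G X)).1
      ⟨s, by rw [← Category.assoc, ← Category.assoc, ← hpair]⟩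
    obtain ⟨R, hR, hloc⟩ := exists_cover_lift (aΨ.orbitMap o) hhom.2.2 gΨ
    refine ⟨R, hR, fun W f hf => ?_⟩
    obtain ⟨g, hg⟩ := hloc f hf
    have e1 : g * (toUnit _ ≫ h) * g⁻¹ = memHom f ≫ s ≫ σ ≫ fst G X := by
      rw [← horb, hg, Category.assoc, hgΨ]
    have hfix' : lift (g * (toUnit _ ≫ h) * g⁻¹) (memHom f ≫ s ≫ σ ≫ snd G X) ≫ a.act =
        memHom f ≫ s ≫ σ ≫ snd G X := by
      rw [e1, ← comp_lift_assoc, hfix]
    set x := memHom f ≫ s ≫ σ ≫ snd G X with hx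
    have hxh : lift (toUnit _ ≫ h) (lift g⁻¹ x ≫ a.act) ≫ a.act = lift g⁻¹ x ≫ a.act := by
      conv_rhs => rw [← hfix', ← AlgGrpBasic19.act_mul]
      rw [← AlgGrpBasic19.act_mul]
      congr 2
      simp only [_root_.mul_assoc, inv_mul_cancel_left]
    obtain ⟨y, hy⟩ := (hXh _ _).2 hxh
    refine ⟨lift g y, ?_⟩
    rw [← cancel_mono σ, Category.assoc, hΦ, hpair ((memHom f ≫ s) ≫ σ)]
    simp only [comp_lift, MonObj.comp_mul, GrpObj.comp_inv, lift_fst, lift_snd_assoc, comp_toUnit_assoc,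
      Category.assoc, hy]
    rw [← e1]
    congr 1
    rw [comp_lift_assoc, lift_fst, lift_snd_assoc, hy, ← AlgGrpBasic19.act_mul, mul_inv_cancel,
      AlgGrpBasic19.act_one]
  -- values of `σ` and `j` on a lift
  have hσ1 : ∀ {T : Over (Spec (CommRingCat.of k))} (g : T ⟶ G) (y : T ⟶ Xh),
      lift g y ≫ Φ ≫ σ = lift (g * (toUnit T ≫ h) * g⁻¹) (lift g (y ≫ incl) ≫ a.act) := fun g y => by
    rw [hΦ]
    simp only [comp_lift, MonObj.comp_mul, GrpObj.comp_inv, lift_fst, comp_toUnit_assoc]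
    rw [comp_lift_assoc, lift_fst, lift_snd_assoc]
  have hj1 : ∀ {T : Over (Spec (CommRingCat.of k))} (g : T ⟶ G) (y : T ⟶ Xh),
      lift g y ≫ Φ ≫ j = lift g (y ≫ incl) ≫ jY := fun g y => by rw [hj, lift_whiskerLeft_assoc]
  have hjq : j ≫ q = σ ≫ snd G X := by
    obtain ⟨R, hR, hl'⟩ := hlift (𝟙 SΨ)
    refine hom_ext_over hR fun W f hf => ?_
    obtain ⟨r, hr⟩ := hl' f hf
    rw [Category.comp_id] at hr
    have h1 : lift (r ≫ fst G Xh) (r ≫ snd G Xh) ≫ Φ = memHom f := by rw [← hpair, hr]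
    rw [← h1, Category.assoc, Category.assoc, reassoc_of% hj1, hq, reassoc_of% hσ1, lift_snd]
  haveI : Mono j := by
    refine ⟨fun {T} s₁ s₂ e => ?_⟩
    have e2 : s₁ ≫ σ ≫ snd G X = s₂ ≫ σ ≫ snd G X := by rw [← hjq, reassoc_of% e]
    obtain ⟨R₁, hR₁, hl₁⟩ := hlift s₁
    refine hom_ext_over hR₁ fun W f hf => ?_
    obtain ⟨r₁, hr₁⟩ := hl₁ f hf
    obtain ⟨R₂, hR₂, hl₂⟩ := hlift (memHom f ≫ s₂)
    refine hom_ext_over hR₂ fun V f' hf' => ?_
    obtain ⟨r₂, hr₂⟩ := hl₂ f' hf'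
    rw [← hr₂, ← hr₁]
    have e' : (memHom f' ≫ r₁) ≫ Φ ≫ j = r₂ ≫ Φ ≫ j := by
      rw [Category.assoc, reassoc_of% hr₁, reassoc_of% hr₂, e]
    have e2' : (memHom f' ≫ r₁) ≫ Φ ≫ σ ≫ snd G X = r₂ ≫ Φ ≫ σ ≫ snd G X := by
      rw [Category.assoc, reassoc_of% hr₁, reassoc_of% hr₂, e2]
    rw [← Category.assoc (memHom f') r₁]
    generalize memHom f' ≫ r₁ = s at e' e2'
    rw [hpair s, hpair r₂, hj1, hj1] at e'
    obtain ⟨g, hg1, hg2⟩ := j_eq hY e'
    rw [AlgGrp.Action.lift_restrict_act] at hg2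
    have hk := key g _ _ ((hXh _ _).1 ⟨_, rfl⟩) ((hXh _ _).1 ⟨_, rfl⟩) hg2
    rw [← cancel_mono σ, Category.assoc, Category.assoc]
    apply CartesianMonoidalCategory.hom_ext
    · rw [hpair s, hpair r₂, hσ1, hσ1, lift_fst, lift_fst, ← hg1]
      generalize r₂ ≫ fst G Xh = b
      have hk' : (g ≫ p)⁻¹ * (toUnit _ ≫ h) * (g ≫ p) = toUnit _ ≫ h := by
        conv_lhs => rw [← hk]
        simp only [_root_.mul_assoc, inv_mul_cancel_left, inv_mul_cancel, _root_.mul_one]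
      conv_rhs => rw [← hk']
      simp only [_root_.mul_assoc, _root_.mul_inv_rev, _root_.inv_inv]
    · simpa only [Category.assoc] using e2'
  haveI : IsFinite (σ ≫ snd G X).left := by
    obtain ⟨s, hs⟩ := (hSX SΨ (σ ≫ fst G X) (σ ≫ snd G X)).2
      ((hSΨ _ _ _).1 ⟨𝟙 _, by rw [Category.id_comp]; exact hpair σ⟩).2
    rw [← hpair] at hs
    obtain ⟨γΨ, hγ⟩ := ((hSΨ SΨ (σ ≫ fst G X) (σ ≫ snd G X)).1 ⟨𝟙 _, by rw [Category.id_comp]; exact hpair σ⟩).1
    have sq : IsPullback s γΨ (σX ≫ fst G X) ψ := by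
      refine isPullback_of_points (by rw [reassoc_of% hs, hγ]) fun T b c hbc => ?_
      obtain ⟨w, hw⟩ := (hSΨ T (b ≫ σX ≫ fst G X) (b ≫ σX ≫ snd G X)).2
        ⟨⟨c, hbc.symm⟩, (hSX _ _ _).1 ⟨b, by rw [← Category.assoc, ← Category.assoc, ← hpair]⟩⟩
      rw [← Category.assoc b, ← Category.assoc b, ← hpair] at hw
      refine ⟨w, ⟨?_, ?_⟩, ?_⟩
      · rw [← cancel_mono σX, Category.assoc, hs, hw]
      · rw [← cancel_mono ψ, Category.assoc, hγ, reassoc_of% hw, hbc]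
      · rintro w' ⟨hw', -⟩
        rw [← cancel_mono σ, hw, ← hs, ← Category.assoc, hw']
    haveI : IsClosedImmersion s.left :=
      MorphismProperty.of_isPullback (P := @IsClosedImmersion) (IsPullback.map (Over.forget _) sq).flip
        ‹IsClosedImmersion ψ.left›
    rw [← hs, Category.assoc, Over.comp_left]
    infer_instance
  haveI : IsFinite (j.left ≫ q.left) := by rw [← Over.comp_left, hjq]; infer_instance
  haveI : IsFinite j.left := IsFinite.of_comp j.left q.left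
  rw [IsClosedImmersion.iff_isFinite_and_mono]
  exact ⟨inferInstance, inferInstance⟩

end Groth.Agent.StabLevi15
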