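import Groth.Agent.Lib.UnipBC21.Basic
import Groth.Agent.Lib.InvRing21.Regular
import Groth.Agent.Lib.Cartier.Smooth
import Groth.Agent.Lib.OrbitTop19.Smooth
import Groth.Agent.Lib.MTRigid29.CentralizerNormalizer
import Groth.Agent.Lib.AlgGrpBasic19.FibreIso
import Groth.Agent.Lib.AlgGrpBasic19.Basic
import Groth.Agent.Lib.AbRigid.Isogeny
import Mathlib.LinearAlgebra.FreeModule.Finite.Matrix

/-!
# Finite stabilizers meet unipotent groups trivially in characteristic zero
-/

set_option autoImplicit false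
set_option linter.style.haveILetI false
set_option maxSynthPendingDepth 3
set_option synthInstance.maxHeartbeats 400000
set_option backward.isDefEq.respectTransparency false
set_option backward.isDefEq.respectTransparency.types false

universe u

open CategoryTheory Limits MonoidalCategory CartesianMonoidalCategory MonObj AlgebraicGeometry
open Groth.Agent.DiagGL Groth.Agent.TorPts21

noncomputable section

namespace Groth.Agent.StabLevi15

/-- A unipotent matrix over a `ℚ`-algebra of finite order is trivial. -/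
theorem eq_one_of_pow_eq_one {Ω : Type u} [CommRing Ω] {n : ℕ} (M : Matrix (Fin n) (Fin n) Ω) {L : ℕ}
    (hL : IsUnit (L : Ω)) (h1 : IsNilpotent (M - 1)) (h2 : M ^ L = 1) : M = 1 := by
  let S := ∑ i ∈ Finset.range L, M ^ i
  have hS : S * (M - 1) = 0 := by rw [geom_sum_mul, h2, sub_self]
  let Q := ∑ i ∈ Finset.range L, ∑ j ∈ Finset.range i, M ^ j
  have hQ : S = (L : Matrix (Fin n) (Fin n) Ω) + (M - 1) * Q := by
    simp only [S, Q, Finset.mul_sum]
    rw [← Finset.sum_congr rfl (fun i _ => Finset.mul_sum (Finset.range i) (fun j => M ^ j) (M - 1))]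
    simp only [mul_geom_sum, Finset.sum_sub_distrib, Finset.sum_const, Finset.card_range, nsmul_eq_mul, _root_.mul_one,
      add_sub_cancel]
  have hc : Commute (M - 1) M := (Commute.refl M).sub_left (Commute.one_left M)
  have hcQ : Commute (M - 1) Q :=
    Commute.sum_right _ _ _ fun i _ => Commute.sum_right _ _ _ fun j _ => hc.pow_right j
  have hu : IsUnit S := by
    rw [hQ]
    refine (hcQ.isNilpotent_mul_right h1).isUnit_add_left_of_commute ?_ (Nat.commute_cast _ _)
    rw [← map_natCast (algebraMap Ω (Matrix (Fin n) (Fin n) Ω)) L]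
    exact hL.map _
  exact sub_eq_zero.1 (hu.mul_right_eq_zero.1 hS)

attribute [local instance] InvRing21.gamAlg BorelFix21.ptsTop

set_option maxHeartbeats 1000000 in
/-- A unipotent group in characteristic zero has no torsion, on all points. -/
theorem torsionFree {k : Type u} [Field k] [IsAlgClosed k] [CharZero k]
    (U : Over (Spec (CommRingCat.of k))) [GrpObj U] [IsAffine U.left] [Smooth U.hom] [ConnectedSpace U.left]
    (hU : Red.HasNoSubtorus k U) {W : Over (Spec (CommRingCat.of k))} (x : W ⟶ U) {L : ℕ} (hL : 0 < L)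
    (hx : x ^ L = 1) : x = 1 := by
  obtain ⟨n, r, hr, hrc, hu⟩ := exists_upper_embedding (𝟙 U) (isSolvableGrp_of_hasNoSubtorus U hU)
  haveI := hr
  haveI := hrc
  have hl := range_le_lay_of_hasNoSubtorus r (fun g hg => hu (by simpa using hg)) hU
  haveI : Mono r := Over.mono_of_mono_left r
  have hzero : ∀ a b : Fin n, (b : ℕ) < a + 1 → (mat r - 1) a b = 0 := by
    intro a b hab
    refine InvRing21.ext_val fun y => ?_
    have h2 := (MatGrp21.mem_lay.1 (hl ⟨y, rfl⟩)).2 a b hab
    rw [mtx_apply, coe_mtxFn, mtxMat, mat_comp] at h2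
    rw [map_zero]
    refine Eq.trans ?_ h2
    by_cases e : a = b
    · simp only [e, Matrix.sub_apply, Matrix.map_apply, map_sub, Matrix.one_apply_eq, map_one]; rfl
    · simp only [Matrix.sub_apply, Matrix.map_apply, map_sub, Matrix.one_apply_ne e, map_zero]; rfl
  have hnil : (mat r - 1) ^ n = 0 := by
    have h : ∀ i : ℕ, ∀ a b : Fin n, (b : ℕ) < a + i → ((mat r - 1) ^ i) a b = 0 := by
      intro i
      induction i with
      | zero => intro a b h; rw [pow_zero]; exact Matrix.one_apply_ne (by rintro rfl; omega)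
      | succ i ih =>
        intro a b h
        rw [pow_succ, Matrix.mul_apply]
        refine Finset.sum_eq_zero fun c _ => ?_
        by_cases hc : (c : ℕ) < a + i
        · rw [ih a c hc, zero_mul]
        · rw [hzero c b (by omega), mul_zero]
    ext a b
    exact h n a b (by omega)
  refine (cancel_mono r).1 (mat_injective ?_)
  rw [MonObj.one_comp, mat_one]
  let G : (W ⟶ U) →* Matrix (Fin n) (Fin n) Γ(W.left, ⊤) :=
    { toFun := fun z => mat (z ≫ r)
      map_one' := by rw [MonObj.one_comp, mat_one]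
      map_mul' := fun a b => by rw [MonObj.mul_comp, mat_mul] }
  refine eq_one_of_pow_eq_one _ (L := L) ?_ ?_ ?_
  · rw [← map_natCast (alg W) L]
    exact ((IsUnit.mk0 _ (Nat.cast_ne_zero.2 hL.ne')) : IsUnit (L : k)).map _
  · refine ⟨n, ?_⟩
    have e1 : mat (x ≫ r) - 1 = x.left.appTop.hom.mapMatrix (mat r - 1) := by
      rw [mat_comp, map_sub, map_one]
      rfl
    rw [e1, ← map_pow, hnil, map_zero]
  · show G x ^ L = 1
    rw [← map_pow, hx, map_one]

/-- A finite group without torsion is trivial in characteristic zero. -/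
theorem isIso_of_finite_subgroup {K : Type u} [Field K] [CharZero K] {Z GU : Over (Spec (CommRingCat.of K))}
    [GrpObj Z] [GrpObj GU] (j : Z ⟶ GU) [IsMonHom j] [Mono j] [IsFinite Z.hom]
    (tf : ∀ (W : Over (Spec (CommRingCat.of K))) (g : W ⟶ GU) (L : ℕ), 0 < L → g ^ L = 1 → g = 1) :
    IsIso Z.hom := by
  haveI : Smooth Z.hom := smooth_of_charZero' Z
  haveI : IsReduced Z.left := OrbitTop19.isReduced_of_smooth Z.hom
  haveI : IsClosedImmersion (η[Z].left) :=
    isClosedImmersion_of_comp_eq_id (Y := Spec (.of K)) Z.hom η[Z].left (Over.w η[Z])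
  haveI : IsAffine Z.left := isAffine_of_isAffineHom Z.hom
  haveI : Module.Finite K Γ(Z.left, ⊤) := by
    rw [← RingHom.finite_algebraMap]
    show (alg Z).Finite
    exact RingHom.Finite.comp Z.hom.finite_appTop
      (RingHom.Finite.of_surjective _ (Scheme.ΓSpecIso (CommRingCat.of K)).symm.commRingCatIsoToRingEquiv.surjective)
  haveI : Surjective η[Z].left := ⟨fun p => by
    let L : Type u := Z.left.residueField p
    obtain ⟨ρ, hρ⟩ := Spec.map_surjective (Z.left.fromSpecResidueField p ≫ Z.hom)
    letI : Algebra K L := ρ.hom.toAlgebra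
    let W := VecGrp.pt K L
    let z : W ⟶ Z := Over.homMk (Z.left.fromSpecResidueField p) hρ.symm
    haveI : Module.Free K Γ(Z.left, ⊤) := inferInstance
    haveI : Finite (W ⟶ Z) := Finite.of_injective (fun f => InvRing21.val f) fun f g h => by
      rw [← InvRing21.ptMap_val f, ← InvRing21.ptMap_val g]
      exact congrArg (fun φ => VecGrp.ptMap φ ≫ InvRing21.uPt Z) h
    obtain ⟨m, hm, hzm⟩ := isOfFinOrder_iff_pow_eq_one.1 (isOfFinOrder_of_finite z)
    let J : (W ⟶ Z) →* (W ⟶ GU) :=
      { toFun := fun f => f ≫ j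
        map_one' := MonObj.one_comp j
        map_mul' := fun a b => MonObj.mul_comp a b j }
    have hz : z = 1 := by
      refine (cancel_mono j).1 ?_
      rw [MonObj.one_comp]
      exact tf W (J z) m hm (by rw [← map_pow, hzm, map_one])
    have hz' : z.left = (toUnit W).left ≫ η[Z].left := by rw [hz, Hom.one_def, Over.comp_left]
    refine ⟨(toUnit W).left (IsLocalRing.closedPoint L), ?_⟩
    show ((toUnit W).left ≫ η[Z].left) (IsLocalRing.closedPoint L) = p
    rw [← hz']
    exact Z.left.fromSpecResidueField_apply p _⟩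
  haveI : IsIso η[Z].left := isIso_of_isClosedImmersion_of_surjective _
  have hw : η[Z].left ≫ Z.hom = 𝟙 (Spec (CommRingCat.of K)) := Over.w η[Z]
  haveI : IsIso (η[Z].left ≫ Z.hom) := by
    rw [hw]
    exact IsIso.id _
  exact IsIso.of_isIso_comp_left η[Z].left Z.hom
where
  smooth_of_charZero' {K : Type u} [Field K] [CharZero K] (Z : Over (Spec (CommRingCat.of K))) [GrpObj Z]
      [IsFinite Z.hom] : Smooth Z.hom := Cartier.smooth_of_charZero Z

section fix

variable {k : Type u} [Field k] [IsAlgClosed k] [CharZero k] {G U X SX : Over (Spec (CommRingCat.of k))}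
  [GrpObj G] [GrpObj U]

/-- The point of a base change. -/
theorem fl_left {S S' : Scheme.{u}} (ψ : S' ⟶ S) (A : Over S) [GrpObj A] {T : Over S'} (g : T ⟶ Red.bc ψ A) :
    (fl ψ A g).left = g.left ≫ pullback.fst A.hom ψ := rfl

set_option maxHeartbeats 1000000 in
/-- With finite stabilizers, a point of a unipotent subgroup fixing a point of `X` is trivial. -/
theorem eq_one_of_fix (up : U ⟶ G) [IsMonHom up] [IsClosedImmersion up.left] [IsAffine U.left] [Smooth U.hom]
    [ConnectedSpace U.left] (hU : Red.HasNoSubtorus k U) (a : AlgGrp.Action G X) (σX : SX ⟶ G ⊗ X) [Mono σX]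
    (hSX : ∀ (T : Over (Spec (CommRingCat.of k))) (g : T ⟶ G) (x : T ⟶ X),
      (∃ s : T ⟶ SX, s ≫ σX = lift g x) ↔ lift g x ≫ a.act = x)
    [IsFinite (σX ≫ snd G X).left] {T : Over (Spec (CommRingCat.of k))} (u : T ⟶ U) (x : T ⟶ X)
    (hfix : lift (u ≫ up) x ≫ a.act = x) : u = 1 := by
  let E := pullback σX (up ▷ X)
  let e1 : E ⟶ SX := pullback.fst σX (up ▷ X)
  let e2 : E ⟶ U ⊗ X := pullback.snd σX (up ▷ X)
  let π : E ⟶ X := e2 ≫ snd U X
  haveI : Mono e2 := inferInstance
  have hsq : IsPullback e1 e2 σX (up ▷ X) := IsPullback.of_hasPullback _ _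
  have hpt : ∀ {T' : Over (Spec (CommRingCat.of k))} (u' : T' ⟶ U) (x' : T' ⟶ X),
      lift (u' ≫ up) x' ≫ a.act = x' → ∃ w : T' ⟶ E, w ≫ e2 = lift u' x' := fun {T'} u' x' h => by
    obtain ⟨s, hs⟩ := (hSX _ _ _).2 h
    exact ⟨hsq.lift s (lift u' x') (by rw [hs, lift_whiskerRight]), hsq.lift_snd _ _ _⟩
  have hptc : ∀ {T' : Over (Spec (CommRingCat.of k))} (w : T' ⟶ E),
      lift ((w ≫ e2 ≫ fst U X) ≫ up) (w ≫ π) ≫ a.act = w ≫ π := fun {T'} w => by
    refine (hSX _ _ _).1 ⟨w ≫ e1, ?_⟩
    rw [Category.assoc, hsq.w]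
    apply CartesianMonoidalCategory.hom_ext <;> simp [π]
  haveI : IsClosedImmersion (up ▷ X).left := by
    have h1 : IsPullback (fst U X).left (up ▷ X).left up.left (fst G X).left := by
      have h2 : IsPullback (fst G X).left (snd G X).left G.hom X.hom := IsPullback.of_hasPullback G.hom X.hom
      have h3 : IsPullback (fst U X).left ((up ▷ X).left ≫ (snd G X).left) (up.left ≫ G.hom) X.hom := by
        rw [← Over.comp_left, whiskerRight_snd, Over.w up]; exact IsPullback.of_hasPullback U.hom X.hom
      exact IsPullback.of_bot h3 (by rw [← Over.comp_left, ← Over.comp_left, whiskerRight_fst]) h2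
    exact MorphismProperty.of_isPullback (P := @IsClosedImmersion) h1 ‹IsClosedImmersion up.left›
  haveI : IsClosedImmersion e1.left :=
    MorphismProperty.of_isPullback (P := @IsClosedImmersion) (IsPullback.map (Over.forget _) hsq).flip
      ‹IsClosedImmersion (up ▷ X).left›
  have hπ : π = e1 ≫ σX ≫ snd G X := by rw [hsq.w_assoc, whiskerRight_snd]
  haveI : IsFinite π.left := by rw [hπ, Over.comp_left]; infer_instance
  obtain ⟨e, he⟩ := hpt (1 : X ⟶ U) (𝟙 X) (by rw [MonObj.one_comp, AlgGrpBasic19.act_one])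
  have heπ : e ≫ π = 𝟙 X := by rw [← Category.assoc, he, lift_snd]
  have hiso : IsIso π.left := by
    refine AlgGrpBasic19.isIso_of_fibres π.left e.left (by rw [← Over.comp_left, heπ]; rfl) fun y => ?_
    let K : Type u := X.left.residueField y
    obtain ⟨ρ, hρ⟩ := Spec.map_surjective (X.left.fromSpecResidueField y ≫ X.hom)
    haveI : CharZero K := charZero_of_injective_ringHom (f := ρ.hom) ρ.hom.injective
    let ψ : Spec (CommRingCat.of K) ⟶ Spec (CommRingCat.of k) := X.left.fromSpecResidueField y ≫ X.hom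
    let Z : Over (Spec (CommRingCat.of K)) := Over.mk (π.left.fiberToSpecResidueField y)
    haveI : IsFinite Z.hom := inferInstanceAs (IsFinite (π.left.fiberToSpecResidueField y))
    have hfib : IsPullback (π.left.fiberι y) (π.left.fiberToSpecResidueField y) π.left
        (X.left.fromSpecResidueField y) := IsPullback.of_hasPullback _ _
    let zE : (Over.map ψ).obj Z ⟶ E := Over.homMk (π.left.fiberι y) (by
      rw [← Over.w π, reassoc_of% hfib.w]
      rfl)
    let xT : ∀ T' : Over (Spec (CommRingCat.of K)), (Over.map ψ).obj T' ⟶ X := fun T' =>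
      Over.homMk (T'.hom ≫ X.left.fromSpecResidueField y) (Category.assoc _ _ _)
    let j : Z ⟶ Red.bc ψ U := Over.homMk (pullback.lift (zE ≫ e2 ≫ fst U X).left Z.hom (Over.w (zE ≫ e2 ≫ fst U X)))
      (pullback.lift_snd _ _ _)
    have hflj : ∀ {T' : Over (Spec (CommRingCat.of K))} (z : T' ⟶ Z),
        fl ψ U (z ≫ j) = (Over.map ψ).map z ≫ zE ≫ e2 ≫ fst U X := fun {T'} z => by
      refine Over.OverMorphism.ext ?_
      rw [fl_left, Over.comp_left, Category.assoc]
      show z.left ≫ j.left ≫ pullback.fst U.hom ψ = z.left ≫ (zE ≫ e2 ≫ fst U X).left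
      exact congrArg (z.left ≫ ·) (pullback.lift_fst _ _ _)
    have hzx : ∀ {T' : Over (Spec (CommRingCat.of K))} (z : T' ⟶ Z),
        (Over.map ψ).map z ≫ zE ≫ π = xT T' := fun {T'} z => by
      refine Over.OverMorphism.ext ?_
      show z.left ≫ π.left.fiberι y ≫ π.left = T'.hom ≫ X.left.fromSpecResidueField y
      rw [hfib.w, ← Category.assoc]
      exact congrArg (· ≫ X.left.fromSpecResidueField y) (Over.w z)
    haveI : Mono j := ⟨fun {T'} z z' h => by
      have h1 : (Over.map ψ).map z ≫ zE = (Over.map ψ).map z' ≫ zE := by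
        rw [← cancel_mono e2]
        apply CartesianMonoidalCategory.hom_ext
        · simp only [Category.assoc]; rw [← hflj, ← hflj, h]
        · simp only [Category.assoc]; exact (hzx z).trans (hzx z').symm
      exact Over.OverMorphism.ext (hfib.hom_ext (congrArg CommaMorphism.left h1) ((Over.w z).trans (Over.w z').symm))⟩
    have hmem : ∀ {T' : Over (Spec (CommRingCat.of K))} (g : T' ⟶ Red.bc ψ U),
        (∃ z : T' ⟶ Z, z ≫ j = g) ↔ lift (fl ψ U g ≫ up) (xT T') ≫ a.act = xT T' := by
      intro T' g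
      constructor
      · rintro ⟨z, rfl⟩
        have h1 := hptc ((Over.map ψ).map z ≫ zE)
        simp only [Category.assoc] at h1
        rw [hzx z] at h1
        rw [hflj, Category.assoc, Category.assoc, Category.assoc]
        exact h1
      · intro h
        obtain ⟨w, hw⟩ := hpt (fl ψ U g) (xT T') h
        have hwπ : w ≫ π = xT T' := by rw [← Category.assoc, hw, lift_snd]
        refine ⟨Over.homMk (hfib.lift w.left T'.hom (congrArg CommaMorphism.left hwπ)) (hfib.lift_snd _ _ _),
          fl_injective ψ U ?_⟩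
        rw [hflj]
        have h2 : w ≫ e2 ≫ fst U X = fl ψ U g := by rw [← Category.assoc, hw, lift_fst]
        refine Eq.trans ?_ h2
        rw [← Category.assoc]
        congr 1
        exact Over.OverMorphism.ext (hfib.lift_fst _ _ _)
    have hone : ∀ T' : Over (Spec (CommRingCat.of K)), fl ψ U (1 : T' ⟶ Red.bc ψ U) = 1 := fun T' => by
      have h := fl_mul ψ U (1 : T' ⟶ Red.bc ψ U) 1
      rw [_root_.mul_one] at h
      exact left_eq_mul.1 h
    obtain ⟨gr, hjm⟩ := MTRigid29.exists_grpObj_of_subgroup j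
      (fun T' z z' => (hmem _).2 (by
        rw [fl_mul, MonObj.mul_comp, AlgGrpBasic19.act_mul, (hmem _).1 ⟨z', rfl⟩, (hmem _).1 ⟨z, rfl⟩]))
      ((hmem _).2 (by rw [hone, MonObj.one_comp, AlgGrpBasic19.act_one]))
      (fun T' z => (hmem _).2 (by
        have hi : fl ψ U (z ≫ j)⁻¹ = (fl ψ U (z ≫ j))⁻¹ :=
          eq_inv_of_mul_eq_one_left (by rw [← fl_mul, inv_mul_cancel, hone])
        rw [hi, GrpObj.inv_comp]
        conv_lhs => arg 1; arg 2; rw [← (hmem _).1 ⟨z, rfl⟩]
        rw [← AlgGrpBasic19.act_mul, inv_mul_cancel, AlgGrpBasic19.act_one]))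
    haveI := hjm
    refine isIso_of_finite_subgroup j fun W g L hL hg => fl_injective ψ U ?_
    let F : (W ⟶ Red.bc ψ U) →* ((Over.map ψ).obj W ⟶ U) := MonoidHom.mk' (fun z => fl ψ U z) fun z z' => fl_mul ψ U z z'
    rw [hone]
    exact torsionFree U hU (F g) hL (by rw [← map_pow, hg, map_one])
  haveI : IsIso ((Over.forget _).map π) := hiso
  haveI : IsIso π := isIso_of_reflects_iso π (Over.forget _)
  obtain ⟨w, hw⟩ := hpt u x hfix
  have hwe : w = x ≫ e := by
    rw [← cancel_mono π, Category.assoc, heπ, Category.comp_id, ← Category.assoc, hw, lift_snd]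
  have h3 := congrArg (· ≫ fst U X) hw
  simp only [lift_fst] at h3
  rw [← h3, hwe, Category.assoc, Category.assoc, ← Category.assoc e, he, lift_fst, MonObj.comp_one]

end fix

end Groth.Agent.StabLevi15
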